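import Cfsg.Agent.REC.L7.Mat
import Cfsg.Agent.CLAS.SLBasic

/-!
# S3731: tools for pattern subgroups of `Γ = GL₅(2)`
-/

open Subgroup Matrix

namespace CL.L7

theorem z2 (a : ZMod 2) : a = 0 ∨ a = 1 := by revert a; decide

theorem z2_add (a : ZMod 2) : a + a = 0 := by revert a; decide

theorem diag_row {g : Γ} {j : Fin 5} (h : ∀ k, k ≠ j → (g : M5) j k = 0) : (g : M5) j j = 1 := by
  refine (z2 _).resolve_left fun h0 => ?_
  have e := congrFun (congrFun g.mul_inv j) j
  rw [mul_apply, one_apply_eq, Finset.sum_eq_zero fun k _ => by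
    by_cases hk : k = j
    · rw [hk, h0, zero_mul]
    · rw [h k hk, zero_mul]] at e
  exact zero_ne_one e

theorem diag_col {g : Γ} {i : Fin 5} (h : ∀ k, k ≠ i → (g : M5) k i = 0) : (g : M5) i i = 1 :=
  diag_row (g := tr g) h

theorem el_eq {i j : Fin 5} (h : i ≠ j) : (el i j : M5) = 1 + single i j 1 := by
  revert i j
  decide +kernel

theorem el_mem {S : Fin 5 → Fin 5 → Prop} {hS : ∀ i j k, S i j → S j k → S i k} {i j : Fin 5}
    (h : S i j) : el i j ∈ pat S hS := fun a b hab => by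
  change (if a = b then 1 else if a = i ∧ b = j then 1 else 0 : ZMod 2) = _
  by_cases e : a = b
  · rw [if_pos e, if_pos e]
  · rw [if_neg e, if_neg e, if_neg]
    rintro ⟨rfl, rfl⟩
    exact hab h

theorem commute_el {i j : Fin 5} (hij : i ≠ j) {g : Γ} : Commute (el i j) g ↔
    (∀ k, (g : M5) j k = if j = k then 1 else 0) ∧ ∀ k, (g : M5) k i = if k = i then 1 else 0 := by
  have e : Commute (el i j) g ↔ single i j (1 : ZMod 2) * (g : M5) = (g : M5) * single i j (1 : ZMod 2) := by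
    rw [Commute, SemiconjBy, ← Units.val_inj, Units.val_mul, Units.val_mul, el_eq hij, add_mul, mul_add,
      one_mul, mul_one, add_right_inj]
  rw [e]
  constructor
  · intro h
    have h1 : ∀ k, k ≠ j → (g : M5) j k = 0 := fun k hk => by
      have := congrFun (congrFun h i) k
      rwa [single_mul_apply_same, one_mul, mul_single_apply_of_ne _ _ _ _ _ hk] at this
    have h2 : ∀ k, k ≠ i → (g : M5) k i = 0 := fun k hk => by
      have := congrFun (congrFun h k) j
      rw [mul_single_apply_same, mul_one, single_mul_apply_of_ne _ _ _ _ _ hk] at this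
      exact this.symm
    refine ⟨fun k => ?_, fun k => ?_⟩
    · split_ifs with hk
      exacts [hk ▸ diag_row h1, h1 k (Ne.symm hk)]
    · split_ifs with hk
      exacts [by rw [hk]; exact diag_col h2, h2 k hk]
  · rintro ⟨h1, h2⟩
    ext a b
    by_cases ha : a = i <;> by_cases hb : b = j
    · rw [ha, hb, single_mul_apply_same, mul_single_apply_same, h1, h2]; simp
    · rw [ha, single_mul_apply_same, mul_single_apply_of_ne _ _ _ _ _ hb, h1, if_neg (Ne.symm hb)]; simp
    · rw [hb, mul_single_apply_same, single_mul_apply_of_ne _ _ _ _ _ ha, h2, if_neg ha]; simp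
    · rw [mul_single_apply_of_ne _ _ _ _ _ hb, single_mul_apply_of_ne _ _ _ _ _ ha]

section Pat
variable {S T U : Fin 5 → Fin 5 → Prop} {hS : ∀ i j k, S i j → S j k → S i k}
  {hT : ∀ i j k, T i j → T j k → T i k} {hU : ∀ i j k, U i j → U j k → U i k}

theorem pat_le (h : ∀ i j, S i j → T i j) : pat S hS ≤ pat T hT := fun _ hg i j hij =>
  hg i j fun h' => hij (h i j h')

theorem Pat.sub {A : M5} (h : Pat S A) {i j : Fin 5} (hij : ¬ S i j) : (A - 1) i j = 0 := by
  rw [Matrix.sub_apply, h i j hij, one_apply, sub_self]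

theorem pat_of_sub {A : M5} (h : ∀ i j, ¬ S i j → (A - 1) i j = 0) : Pat S A := fun i j hij => by
  have := h i j hij
  rwa [Matrix.sub_apply, sub_eq_zero, one_apply] at this

theorem Pat.zero {A : M5} (h : Pat S A) {i j : Fin 5} (hij : ¬ (S i j ∨ i = j)) : A i j = 0 := by
  rw [h i j fun e => hij (Or.inl e), if_neg fun e => hij (Or.inr e)]

/-- `g r k` for `r` in a pattern -/
theorem pat_conj' (h : ∀ i j k l, T i j ∨ i = j → S j k → T k l ∨ k = l → U i l) {g r : Γ}
    (hg : g ∈ pat T hT) (hr : r ∈ pat S hS) : g * r * g⁻¹ ∈ pat U hU := by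
  refine pat_of_sub fun i l hil => ?_
  have e : ((g * r * g⁻¹ : Γ) : M5) - 1 = g * ((r : M5) - 1) * (g⁻¹ : Γ) := by
    rw [mul_sub, sub_mul, mul_one, Units.mul_inv, Units.val_mul, Units.val_mul]
  rw [e, mul_apply]
  refine Finset.sum_eq_zero fun k _ => ?_
  by_cases hk : T k l ∨ k = l
  · rw [mul_apply, Finset.sum_eq_zero fun j _ => ?_, zero_mul]
    by_cases hj : T i j ∨ i = j
    · rw [Pat.sub hr fun hs => hil (h i j k l hj hs hk), mul_zero]
    · rw [Pat.zero hg hj, zero_mul]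
  · rw [Pat.zero (inv_mem hg) hk, mul_zero]

theorem pat_norm (h : ∀ i j k l, T i j ∨ i = j → S j k → T k l ∨ k = l → S i l) {g : Γ}
    (hg : g ∈ pat T hT) : g ∈ normalizer (pat S hS : Set Γ) :=
  mem_normalizer_iff.2 fun _ => ⟨fun hr => pat_conj' h hg hr, fun hr => by
    simpa [mul_assoc] using pat_conj' (hU := hS) h (inv_mem hg) hr⟩

theorem pat_mul_zero (h : ∀ i j k, S i j → ¬ T j k) {A B : M5} (hA : Pat S A) (hB : Pat T B) :
    A * B = A + B - 1 := by
  have : (A - 1) * (B - 1) = 0 := by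
    ext i k
    rw [mul_apply]
    refine Finset.sum_eq_zero fun j _ => ?_
    by_cases hj : S i j
    · rw [hB.sub (h i j k hj), mul_zero]
    · rw [hA.sub hj, zero_mul]
  rw [← sub_eq_zero, ← this]
  noncomm_ring

theorem pat_comm (h : ∀ i j k, S i j → ¬ T j k) (h' : ∀ i j k, T i j → ¬ S j k) {g k : Γ}
    (hg : g ∈ pat S hS) (hk : k ∈ pat T hT) : Commute g k :=
  ext5 (by rw [Units.val_mul, Units.val_mul, pat_mul_zero h hg hk, pat_mul_zero h' hk hg, add_comm])

theorem pat_ea (h : ∀ i j k, S i j → ¬ S j k) {g k : Γ} (hg : g ∈ pat S hS) (hk : k ∈ pat S hS) :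
    Commute g k ∧ g * g = 1 := by
  refine ⟨pat_comm h h hg hk, ext5 ?_⟩
  rw [Units.val_mul, pat_mul_zero h hg hg]
  ext i j
  rw [Matrix.sub_apply, Matrix.add_apply, z2_add, zero_sub, Units.val_one]
  generalize (1 : M5) i j = a
  revert a
  decide

end Pat

/-- conjugation by a permutation matrix -/
theorem perm_conj {w : Γ} {π : Fin 5 → Fin 5}
    (h1 : ∀ i j : Fin 5, (w : M5) i j = if j = π i then (1 : ZMod 2) else 0)
    (h2 : ∀ i j : Fin 5, ((w⁻¹ : Γ) : M5) i j = if i = π j then (1 : ZMod 2) else 0) (g : Γ) (i j : Fin 5) :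
    ((w * g * w⁻¹ : Γ) : M5) i j = (g : M5) (π i) (π j) := by
  simp only [Units.val_mul, mul_apply, h1, h2]
  simp

theorem perm_pat {S T : Fin 5 → Fin 5 → Prop} {hS : ∀ i j k, S i j → S j k → S i k}
    {hT : ∀ i j k, T i j → T j k → T i k} {w : Γ} (π : Equiv.Perm (Fin 5))
    (h1 : ∀ i j, (w : M5) i j = if j = π i then 1 else 0)
    (h2 : ∀ i j, ((w⁻¹ : Γ) : M5) i j = if i = π j then 1 else 0)
    (h : ∀ i j, T i j ↔ S (π i) (π j)) {g : Γ} : w * g * w⁻¹ ∈ pat T hT ↔ g ∈ pat S hS := by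
  refine ⟨fun hg i j hij => ?_, fun hg i j hij => ?_⟩
  · obtain ⟨i, rfl⟩ := π.surjective i
    obtain ⟨j, rfl⟩ := π.surjective j
    rw [← perm_conj h1 h2, hg i j (mt (h i j).1 hij)]
    simp
  · rw [perm_conj h1 h2, hg _ _ (mt (h i j).2 hij)]
    simp

/-- the permutation of `sw` -/
def πs : Equiv.Perm (Fin 5) := Equiv.swap 0 2 * Equiv.swap 1 3
/-- the permutation of `nn` -/
def πn : Equiv.Perm (Fin 5) := Equiv.swap 0 1 * Equiv.swap 2 3

theorem perm_of_eq {A : M5} {π : Fin 5 → Fin 5} (h : A = of fun i j => if j = π i then 1 else 0)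
    (h' : A = of fun i j => if i = π j then 1 else 0) :
    (∀ i j, A i j = if j = π i then 1 else 0) ∧ ∀ i j, A i j = if i = π j then 1 else 0 :=
  ⟨fun i j => congrFun (congrFun h i) j, fun i j => congrFun (congrFun h' i) j⟩

theorem sw_e : (∀ i j, (sw : M5) i j = if j = πs i then 1 else 0) ∧
    ∀ i j, (sw : M5) i j = if i = πs j then 1 else 0 :=
  perm_of_eq (by decide +kernel) (by decide +kernel)

theorem nn_e : (∀ i j, (nn : M5) i j = if j = πn i then 1 else 0) ∧
    ∀ i j, (nn : M5) i j = if i = πn j then 1 else 0 :=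
  perm_of_eq (by decide +kernel) (by decide +kernel)

theorem sw_pat {S T : Fin 5 → Fin 5 → Prop} {hS : ∀ i j k, S i j → S j k → S i k}
    {hT : ∀ i j k, T i j → T j k → T i k} (h : ∀ i j, T i j ↔ S (πs i) (πs j)) {g : Γ} :
    sw * g * sw⁻¹ ∈ pat T hT ↔ g ∈ pat S hS :=
  perm_pat πs sw_e.1 sw_e.2 h

theorem γ_pat {S T : Fin 5 → Fin 5 → Prop} {hS : ∀ i j k, S i j → S j k → S i k}
    {hT : ∀ i j k, T i j → T j k → T i k} (h : ∀ i j, T i j ↔ S (πn j) (πn i)) {g : Γ} :
    γ g ∈ pat T hT ↔ g ∈ pat S hS := by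
  have e := perm_pat (S := fun i j => S j i) (hS := fun i j k a b => hS k j i b a) (hT := hT) (w := nn)
    πn nn_e.1 nn_e.2 h (g := tr g⁻¹)
  rw [γ_apply, ← inv_mem_iff (x := g)]
  refine e.trans ⟨fun hg i j hij => ?_, fun hg i j hij => ?_⟩
  · exact (hg j i hij).trans (if_congr eq_comm rfl rfl)
  · exact (hg j i hij).trans (if_congr eq_comm rfl rfl)

/-- the identity with row `i` replaced by `v` -/
def rowE (i : Fin 5) (v : V5) (h : v i = 1) : Γ :=
  have e : updateRow (1 : M5) i v * updateRow 1 i v = 1 := by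
    revert i v
    decide +kernel
  mk _ _ e e

/-- the identity with column `j` replaced by `v` -/
def colE (j : Fin 5) (v : V5) (h : v j = 1) : Γ := tr (rowE j v h)

theorem rowE_apply (i : Fin 5) (v : V5) (h : v i = 1) (a b : Fin 5) :
    (rowE i v h : M5) a b = if a = i then v b else if a = b then 1 else 0 := by
  change updateRow (1 : M5) i v a b = _
  rw [updateRow_apply, one_apply]

theorem colE_apply (j : Fin 5) (v : V5) (h : v j = 1) (a b : Fin 5) :
    (colE j v h : M5) a b = if b = j then v a else if a = b then 1 else 0 := by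
  change (rowE j v h : M5) b a = _
  rw [rowE_apply]
  simp only [eq_comm]

theorem rowE_inv (i : Fin 5) (v : V5) (h : v i = 1) : (rowE i v h)⁻¹ = rowE i v h := ext5 rfl
theorem colE_inv (i : Fin 5) (v : V5) (h : v i = 1) : (colE i v h)⁻¹ = colE i v h := ext5 rfl

section Dec
variable {S T U : Fin 5 → Fin 5 → Prop} {hS : ∀ i j k, S i j → S j k → S i k}
  {hT : ∀ i j k, T i j → T j k → T i k} {hU : ∀ i j k, U i j → U j k → U i k}

/-- splitting off row `i` -/
theorem row_dec (i : Fin 5) (h0 : ¬ S i i) (h1 : ∀ b, S i b → T i b)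
    (h2 : ∀ a b, a ≠ i → S a b → U a b) {g : Γ} (hg : g ∈ pat S hS) :
    ∃ r ∈ pat T hT, ∃ s ∈ pat U hU, g = r * s := by
  have hi := inv_mem hg
  have e : ((g⁻¹ : Γ) : M5) i i = 1 := by rw [hi i i h0, if_pos rfl]
  refine ⟨rowE i _ e, fun a b hab => ?_, rowE i _ e * g, fun a b hab => ?_, ?_⟩
  · rw [rowE_apply]
    split_ifs with ha hb
    · rw [hi i b fun h => hab (ha ▸ h1 b h), if_pos (ha ▸ hb)]
    · rw [hi i b fun h => hab (ha ▸ h1 b h), if_neg (ha ▸ ‹_›)]
    all_goals rfl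
  · change (updateRow (1 : M5) i _ * g) a b = _
    rw [updateRow_mul, updateRow_apply, one_mul]
    by_cases ha : a = i
    · rw [if_pos ha, ha]
      exact (congrFun (congrFun g.inv_mul i) b).trans one_apply
    · rw [if_neg ha, hg a b fun h => hab (h2 a b ha h)]
  · nth_rewrite 1 [← rowE_inv]
    rw [inv_mul_cancel_left]

/-- splitting off column `j` -/
theorem col_dec (j : Fin 5) (h0 : ∀ b, ¬ S j b) (h1 : ∀ a, S a j → T a j)
    (h2 : ∀ a b, b ≠ j → S a b → U a b) {g : Γ} (hg : g ∈ pat S hS) :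
    ∃ r ∈ pat T hT, ∃ s ∈ pat U hU, g = r * s := by
  have e : (g : M5) j j = 1 := by rw [hg j j (h0 j), if_pos rfl]
  refine ⟨colE j (fun a => (g : M5) a j) e, fun a b hab => ?_, colE j (fun a => (g : M5) a j) e * g,
    fun a b hab => ?_, ?_⟩
  · rw [colE_apply]
    split_ifs with hb ha
    · rw [hg a j fun h => hab (hb ▸ h1 a h), if_pos (hb ▸ ha)]
    · rw [hg a j fun h => hab (hb ▸ h1 a h), if_neg (hb ▸ ‹_›)]
    all_goals rfl
  · rw [Units.val_mul, mul_apply]
    have k : ∀ c, (colE j (fun a => (g : M5) a j) e : M5) a c * (g : M5) c b =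
        (if c = j then ((g : M5) a j - if a = j then 1 else 0) * (g : M5) j b else 0) +
          if a = c then (g : M5) c b else 0 := fun c => by
      rw [colE_apply]
      by_cases hc : c = j
      · subst hc
        by_cases ha : a = c <;> simp [ha, sub_mul]
      · by_cases ha : a = c <;> simp [ha, hc]
    simp only [k, Finset.sum_add_distrib, Finset.sum_ite_eq, Finset.sum_ite_eq', Finset.mem_univ,
      if_true, hg j b (h0 b)]
    by_cases hb : j = b
    · subst hb
      rw [if_pos rfl, mul_one, sub_add_eq_add_sub, z2_add]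
      split_ifs <;> rfl
    · rw [if_neg hb, mul_zero, zero_add, hg a b fun h => hab (h2 a b (Ne.symm hb) h)]
  · nth_rewrite 1 [← colE_inv]
    rw [inv_mul_cancel_left]

end Dec

/-- the order of a unipotent pattern group -/
theorem card_pat {S : Fin 5 → Fin 5 → Prop} [DecidableRel S] {hS : ∀ i j k, S i j → S j k → S i k}
    (h : ∃ π : Equiv.Perm (Fin 5), ∀ i j, S (π i) (π j) → i < j) :
    Nat.card (pat S hS) = 2 ^ Fintype.card {p : Fin 5 × Fin 5 // S p.1 p.2} := by
  obtain ⟨π, hπ⟩ := h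
  refine Eq.trans ?_ (Nat.card_eq_fintype_card.trans (Fintype.card_fun.trans (by rw [ZMod.card]) :
    Fintype.card ({p : Fin 5 × Fin 5 // S p.1 p.2} → ZMod 2) = _))
  refine Nat.card_congr (Equiv.ofBijective (fun g p => (g.1 : M5) p.1.1 p.1.2) ⟨fun g k e => ?_,
    fun f => ?_⟩)
  · refine Subtype.ext (ext5 (Matrix.ext fun i j => ?_))
    by_cases hij : S i j
    · exact congrFun e ⟨(i, j), hij⟩
    · rw [g.2 i j hij, k.2 i j hij]
  · let A : M5 := fun i j => if h : S i j then f ⟨(i, j), h⟩ else if i = j then 1 else 0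
    have hA : Pat S A := fun i j hij => dif_neg hij
    have hd : A.det = 1 := by
      rw [← det_submatrix_equiv_self π, det_of_isUpperTriangular fun i j hij => ?_]
      · refine Finset.prod_eq_one fun i _ => ?_
        rw [submatrix_apply, hA _ _ fun h => lt_irrefl _ (hπ i i h), if_pos rfl]
      · exact hA.zero fun h => h.elim (fun h => lt_asymm hij (hπ i j h))
          fun h => (ne_of_lt hij) (π.injective h).symm
    exact ⟨⟨GeneralLinearGroup.mkOfDetNeZero A (by rw [hd]; exact one_ne_zero), hA⟩,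
      funext fun p => dif_pos p.2⟩

/-- block embeddings -/
theorem exists_emb {n : ℕ} (P : Matrix (Fin 5) (Fin n) (ZMod 2)) (R : Fin 5 → Prop) [DecidablePred R]
    {S : Fin 5 → Fin 5 → Prop} (hS : ∀ i j k, S i j → S j k → S i k) (h : ∀ i j, S i j ↔ R i ∧ R j)
    (h1 : Pᵀ * P = 1) (h2 : P * Pᵀ = diagonal fun i => if R i then 1 else 0) :
    ∃ Φ : SpecialLinearGroup (Fin n) (ZMod 2) →* Γ, Function.Injective Φ ∧ Φ.range = pat S hS ∧
      ∀ s, (Φ s : M5) = P * s.1 * Pᵀ + (1 - P * Pᵀ) := by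
  have k1 : ∀ X : Matrix (Fin n) (Fin 5) (ZMod 2), Pᵀ * (P * X) = X := fun X => by
    rw [← Matrix.mul_assoc, h1, Matrix.one_mul]
  let f : Matrix (Fin n) (Fin n) (ZMod 2) →* M5 :=
    { toFun := fun A => P * A * Pᵀ + (1 - P * Pᵀ)
      map_one' := by simp
      map_mul' := fun A B => by
        simp only [add_mul, mul_add, mul_sub, sub_mul, Matrix.mul_assoc, k1, mul_one, one_mul]
        abel }
  have k2 : ∀ A, Pᵀ * f A * P = A := fun A => by
    change Pᵀ * (P * A * Pᵀ + (1 - P * Pᵀ)) * P = A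
    simp only [Matrix.mul_add, Matrix.mul_sub, Matrix.mul_assoc, k1,
      Matrix.mul_one, h1, sub_self, add_zero]
  have k3 : ∀ A : M5, f (Pᵀ * A * P) = fun i j =>
      if R i ∧ R j then A i j else if i = j then 1 else 0 := fun A => by
    change P * (Pᵀ * A * P) * Pᵀ + (1 - P * Pᵀ) = _
    rw [show P * (Pᵀ * A * P) * Pᵀ = P * Pᵀ * A * (P * Pᵀ) by simp only [Matrix.mul_assoc], h2]
    ext i j
    rw [Matrix.add_apply, Matrix.sub_apply, mul_diagonal, diagonal_mul, one_apply, diagonal_apply]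
    by_cases a : i = j
    · subst a
      by_cases R i <;> simp [*]
    · by_cases R i <;> by_cases R j <;> simp [*]
  have k4 : ∀ A : M5, Pat S A → f (Pᵀ * A * P) = A := fun A hA => by
    rw [k3]
    ext i j
    split_ifs with a b
    · rfl
    · rw [hA i j (mt (h i j).1 a), if_pos b]
    · rw [hA i j (mt (h i j).1 a), if_neg b]
  refine ⟨(Units.map f).comp SpecialLinearGroup.toGL, fun s t e => Subtype.ext ?_, ?_, fun _ => rfl⟩
  · have : f s.1 = f t.1 := congrArg Units.val e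
    rw [← k2 s.1, this, k2]
  · refine le_antisymm ?_ fun g hg => ?_
    · rintro _ ⟨s, rfl⟩ i j hij
      change f s.1 i j = _
      rw [← k2 s.1, k3]
      exact if_neg (mt (h i j).2 hij)
    · have e : Pᵀ * (g : M5) * P * (Pᵀ * ((g⁻¹ : Γ) : M5) * P) = 1 := by
        rw [← k2 (_ * _), map_mul, k4 _ hg, k4 _ (inv_mem hg), Units.mul_inv, Matrix.mul_one, h1]
      have d : (Pᵀ * (g : M5) * P).det = 1 := (z2 _).resolve_left fun d => by
        have := congrArg det e
        rw [det_mul, d, zero_mul, det_one] at this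
        exact zero_ne_one this
      exact ⟨⟨_, d⟩, ext5 (k4 _ hg)⟩

theorem simple_SL {n : ℕ} (hn : 3 ≤ n) : IsSimpleGroup (SpecialLinearGroup (Fin n) (ZMod 2)) := by
  have := CL.SL.psl_isSimpleGroup_of_three_le (ι := Fin n) (F := ZMod 2) (by simpa using hn)
  have : Nonempty (Fin n) := ⟨⟨0, by omega⟩⟩
  have h : center (SpecialLinearGroup (Fin n) (ZMod 2)) = ⊥ :=
    card_eq_one.1 (by rw [CL.SL.card_center_SL]; simp)
  exact ((QuotientGroup.quotientMulEquivOfEq h).trans QuotientGroup.quotientBot).symm.isSimpleGroup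

/-- order, simplicity and generators of a block subgroup -/
theorem block {n : ℕ} (hn : 3 ≤ n) (P : Matrix (Fin 5) (Fin n) (ZMod 2)) (R : Fin 5 → Prop)
    [DecidablePred R] {S : Fin 5 → Fin 5 → Prop} (hS : ∀ i j k, S i j → S j k → S i k)
    (h : ∀ i j, S i j ↔ R i ∧ R j) (h1 : Pᵀ * P = 1)
    (h2 : P * Pᵀ = diagonal fun i => if R i then 1 else 0)
    (h3 : ∀ a b : Fin n, a ≠ b → ∃ i j, S i j ∧ i ≠ j ∧
      P * (1 + single a b 1 : Matrix (Fin n) (Fin n) (ZMod 2)) * Pᵀ + (1 - P * Pᵀ) = elM i j) :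
    Nat.card (pat S hS) = ∏ i : Fin n, (2 ^ n - 2 ^ (i : ℕ)) ∧ IsSimpleGroup (pat S hS) ∧
      Nonempty (SpecialLinearGroup (Fin n) (ZMod 2) ≃* pat S hS) ∧
      ∀ H : Subgroup Γ, (∀ i j, S i j → i ≠ j → el i j ∈ H) → pat S hS ≤ H := by
  obtain ⟨Φ, a1, a2, a3⟩ := exists_emb P R hS h h1 h2
  let e := (MonoidHom.ofInjective a1).trans (MulEquiv.subgroupCongr a2)
  have := simple_SL hn
  refine ⟨?_, e.symm.isSimpleGroup, ⟨e⟩, fun H hH => ?_⟩
  · have := CL.SL.card_SL_mul (F := ZMod 2) n (by omega)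
    rw [ZMod.card] at this
    rw [← Nat.card_congr e.toEquiv, ← this]
    simp
  · have := CL.SL.eq_top_of_transvection_mem (H.comap Φ) fun a b hab c => by
      rcases z2 c with rfl | rfl
      · rw [show SpecialLinearGroup.transvection hab (0 : ZMod 2) = 1 from Subtype.ext (by
          simp [SpecialLinearGroup.transvection])]
        exact one_mem _
      · obtain ⟨i, j, b1, b2, b3⟩ := h3 a b hab
        rw [mem_comap, show Φ (SpecialLinearGroup.transvection hab 1) = el i j from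
          ext5 ((a3 _).trans b3)]
        exact hH i j b1 b2
    rw [← a2]
    rintro _ ⟨s, rfl⟩
    exact (this ▸ mem_top s : s ∈ H.comap Φ)

theorem block_top : Nat.card Γ = 9999360 ∧ IsSimpleGroup Γ ∧
    Nonempty (SpecialLinearGroup (Fin 5) (ZMod 2) ≃* Γ) ∧
    ∀ H : Subgroup Γ, (∀ i j, i ≠ j → el i j ∈ H) → H = ⊤ := by
  obtain ⟨a, b, ⟨c⟩, d⟩ := block (n := 5) (by norm_num) 1 (fun _ => True) (S := fun _ _ => True)
    (fun _ _ _ _ _ => trivial) (by simp) (by simp) (by simp) (by decide +kernel)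
  have e : pat (fun _ _ => True) (fun _ _ _ _ _ => trivial) = ⊤ :=
    eq_top_iff.2 fun _ _ _ _ h => (h trivial).elim
  let f := (MulEquiv.subgroupCongr e).trans topEquiv
  exact ⟨(Nat.card_congr f.toEquiv).symm.trans (a.trans (by decide)), f.symm.isSimpleGroup,
    ⟨c.trans f⟩, fun H h => eq_top_iff.2 (e ▸ d H fun i j _ => h i j)⟩

theorem block_K1 : Nat.card K1 = 168 ∧ IsSimpleGroup K1 ∧
    Nonempty (SpecialLinearGroup (Fin 3) (ZMod 2) ≃* K1) ∧ ∀ H : Subgroup Γ,
      (∀ i j : Fin 5, (i.1 < 2 ∨ i = 4) ∧ (j.1 < 2 ∨ j = 4) → i ≠ j → el i j ∈ H) → K1 ≤ H :=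
  block (n := 3) le_rfl !![1,0,0; 0,1,0; 0,0,0; 0,0,0; 0,0,1] (fun i => i.1 < 2 ∨ i = 4) _
    (fun _ _ => Iff.rfl) (by decide +kernel) (by decide +kernel) (by decide +kernel)

theorem block_K2 : Nat.card K2 = 168 ∧ IsSimpleGroup K2 ∧
    Nonempty (SpecialLinearGroup (Fin 3) (ZMod 2) ≃* K2) ∧ ∀ H : Subgroup Γ,
      (∀ i j : Fin 5, 2 ≤ i.1 ∧ 2 ≤ j.1 → i ≠ j → el i j ∈ H) → K2 ≤ H :=
  block (n := 3) le_rfl !![0,0,0; 0,0,0; 1,0,0; 0,1,0; 0,0,1] (fun i => 2 ≤ i.1) _
    (fun _ _ => Iff.rfl) (by decide +kernel) (by decide +kernel) (by decide +kernel)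

theorem block_MM : Nat.card MM = 20160 ∧ IsSimpleGroup MM ∧
    Nonempty (SpecialLinearGroup (Fin 4) (ZMod 2) ≃* MM) ∧ ∀ H : Subgroup Γ,
      (∀ i j : Fin 5, i ≠ 4 ∧ j ≠ 4 → i ≠ j → el i j ∈ H) → MM ≤ H :=
  block (n := 4) (by norm_num) !![1,0,0,0; 0,1,0,0; 0,0,1,0; 0,0,0,1; 0,0,0,0] (fun i => i ≠ 4) _
    (fun _ _ => Iff.rfl) (by decide +kernel) (by decide +kernel) (by decide +kernel)

end CL.L7
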