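import Cfsg.Agent.TECH.CharP
import Cfsg.Agent.TECH.Conj

/-!
# S3731: the model group `Γ = GL₅(2)` and its standard elements and subgroups

Column vectors, `V = P₁ ⊕ P₂ ⊕ ⟨p⟩` with `P₁ = ⟨e₀,e₁⟩`, `P₂ = ⟨e₂,e₃⟩`, `p = e₄`.  The entry `(i,j)` of a
matrix describes the map `e_j ↦ e_i`; so `Hom(X,Y)` is the pattern of the entries `(i,j)` with `e_i ∈ Y`,
`e_j ∈ X`.
-/

open Subgroup

namespace CL.L7

abbrev M5 := Matrix (Fin 5) (Fin 5) (ZMod 2)
abbrev Γ := GL (Fin 5) (ZMod 2)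
abbrev V5 := Fin 5 → ZMod 2

/-- a matrix with an explicit inverse -/
def mk (A B : M5) (h1 : A * B = 1) (h2 : B * A = 1) : Γ := ⟨A, B, h1, h2⟩

@[simp] theorem mk_val (A B : M5) (h1 : A * B = 1) (h2 : B * A = 1) : ((mk A B h1 h2 : Γ) : M5) = A := rfl
@[simp] theorem mk_inv_val (A B : M5) (h1 : A * B = 1) (h2 : B * A = 1) :
    (((mk A B h1 h2 : Γ)⁻¹ : Γ) : M5) = B := rfl

theorem ext5 {g h : Γ} (e : (g : M5) = h) : g = h := Units.ext e

instance : DecidableEq Γ := fun g h => decidable_of_iff ((g : M5) = h) ⟨ext5, fun e => e ▸ rfl⟩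

/-- the matrix `1 + E_{ij}` -/
def elM (i j : Fin 5) : M5 := Matrix.of fun a b => if a = b then 1 else if a = i ∧ b = j then 1 else 0

theorem elM_mul : ∀ i j : Fin 5, elM i j * elM i j = 1 := by decide +kernel

/-- the elementary transvection `1 + E_{ij}` (the identity for `i = j`) -/
def el (i j : Fin 5) : Γ := mk (elM i j) (elM i j) (elM_mul i j) (elM_mul i j)

def b1 : Γ := mk !![0,1,0,0,0; 1,1,0,0,0; 0,0,1,0,0; 0,0,0,1,0; 0,0,0,0,1]
  !![1,1,0,0,0; 1,0,0,0,0; 0,0,1,0,0; 0,0,0,1,0; 0,0,0,0,1] (by decide +kernel) (by decide +kernel)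
def b2 : Γ := mk !![1,0,0,0,0; 0,1,0,0,0; 0,0,0,1,0; 0,0,1,1,0; 0,0,0,0,1]
  !![1,0,0,0,0; 0,1,0,0,0; 0,0,1,1,0; 0,0,1,0,0; 0,0,0,0,1] (by decide +kernel) (by decide +kernel)
/-- `c = b₁ b₂` -/
def cc : Γ := b1 * b2
/-- `c' = b₁ b₂⁻¹` -/
def cd : Γ := b1 * b2⁻¹
def t1 : Γ := el 0 1
def t2 : Γ := el 2 3
/-- the swap of `P₁` and `P₂`; it is the element `s'` of `Ad` (centralises `cc`, inverts `cd`) -/
def sw : Γ := mk !![0,0,1,0,0; 0,0,0,1,0; 1,0,0,0,0; 0,1,0,0,0; 0,0,0,0,1]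
  !![0,0,1,0,0; 0,0,0,1,0; 1,0,0,0,0; 0,1,0,0,0; 0,0,0,0,1] (by decide +kernel) (by decide +kernel)
/-- the permutation `(0 1)(2 3)` -/
def nn : Γ := mk !![0,1,0,0,0; 1,0,0,0,0; 0,0,0,1,0; 0,0,1,0,0; 0,0,0,0,1]
  !![0,1,0,0,0; 1,0,0,0,0; 0,0,0,1,0; 0,0,1,0,0; 0,0,0,0,1] (by decide +kernel) (by decide +kernel)
/-- the permutation `(2 4)`, an element of `K2` -/
def k24 : Γ := mk !![1,0,0,0,0; 0,1,0,0,0; 0,0,0,0,1; 0,0,0,1,0; 0,0,1,0,0]
  !![1,0,0,0,0; 0,1,0,0,0; 0,0,0,0,1; 0,0,0,1,0; 0,0,1,0,0] (by decide +kernel) (by decide +kernel)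
/-- the element `s = t₂ sw t₂` of `Ac` (centralises `cd`, inverts `cc`) -/
def sc : Γ := t2 * sw * t2
/-- an involution of `Fdp` -/
def fd : Γ := el 2 0 * el 3 1
/-- an involution of `Fcp` -/
def fc : Γ := t2 * fd * t2
/-- an element of order seven of `K1` with `b₁ y b₁⁻¹ = y²` -/
def y7 : Γ := mk !![1,1,0,0,1; 1,1,0,0,0; 0,0,1,0,0; 0,0,0,1,0; 0,1,0,0,1]
  !![1,0,0,0,1; 1,1,0,0,1; 0,0,1,0,0; 0,0,0,1,0; 1,1,0,0,0] (by decide +kernel) (by decide +kernel)
/-- an element of order five of `Ad` -/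
def y5 : Γ := fd * cd * sw

/-- transposition of an invertible matrix -/
def tr (g : Γ) : Γ := ⟨(g : M5).transpose, ((g⁻¹ : Γ) : M5).transpose,
  by rw [← Matrix.transpose_mul, Units.inv_mul, Matrix.transpose_one],
  by rw [← Matrix.transpose_mul, Units.mul_inv, Matrix.transpose_one]⟩

theorem tr_mul (g h : Γ) : tr (g * h) = tr h * tr g := ext5 (Matrix.transpose_mul _ _)
theorem tr_tr (g : Γ) : tr (tr g) = g := ext5 (Matrix.transpose_transpose _)
theorem tr_inv (g : Γ) : tr g⁻¹ = (tr g)⁻¹ := ext5 rfl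
theorem nn_nn : nn * nn = 1 := by decide +kernel
theorem nn_inv : nn⁻¹ = nn := ext5 rfl
theorem tr_nn : tr nn = nn := by decide +kernel

/-- the graph automorphism `γ g = n (g⁻¹)ᵀ n`; it centralises `S1 × S2` and `sw` -/
def γ : Γ ≃* Γ where
  toFun g := nn * tr g⁻¹ * nn
  invFun g := nn * tr g⁻¹ * nn
  left_inv g := by
    simp only [mul_inv_rev, nn_inv, tr_mul, tr_nn, tr_inv, inv_inv, tr_tr]
    rw [← mul_assoc, ← mul_assoc, nn_nn, one_mul, mul_assoc, nn_nn, mul_one]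
  right_inv g := by
    simp only [mul_inv_rev, nn_inv, tr_mul, tr_nn, tr_inv, inv_inv, tr_tr]
    rw [← mul_assoc, ← mul_assoc, nn_nn, one_mul, mul_assoc, nn_nn, mul_one]
  map_mul' g h := by
    simp only [mul_inv_rev, tr_mul]
    calc nn * (tr g⁻¹ * tr h⁻¹) * nn = nn * tr g⁻¹ * (nn * nn) * tr h⁻¹ * nn := by rw [nn_nn]; group
      _ = _ := by group

theorem γ_apply (g : Γ) : γ g = nn * tr g⁻¹ * nn := rfl
theorem γ_γ (g : Γ) : γ (γ g) = g := γ.left_inv g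

/-- agreement with the identity outside a pattern -/
def Pat (S : Fin 5 → Fin 5 → Prop) (A : M5) : Prop := ∀ i j, ¬ S i j → A i j = if i = j then 1 else 0

instance (S : Fin 5 → Fin 5 → Prop) [DecidableRel S] (A : M5) : Decidable (Pat S A) :=
  @Fintype.decidableForallFintype _ _ (fun i => @Fintype.decidableForallFintype _ _
    (fun j => inferInstanceAs (Decidable (¬ S i j → A i j = if i = j then 1 else 0))) _) _

theorem Pat.mul {S : Fin 5 → Fin 5 → Prop} (hS : ∀ i j k, S i j → S j k → S i k) {A B : M5}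
    (hA : Pat S A) (hB : Pat S B) : Pat S (A * B) := by
  intro i k hik
  rw [Matrix.mul_apply]
  have key : ∀ j, A i j * B j k = if j = i then (if i = k then 1 else 0) else 0 := by
    intro j
    by_cases h1 : S i j
    · have h2 : ¬ S j k := fun h => hik (hS _ _ _ h1 h)
      have h3 : j ≠ k := fun e => hik (e ▸ h1)
      rw [hB j k h2, if_neg h3, mul_zero]
      by_cases h4 : j = i
      · rw [if_pos h4, if_neg (h4 ▸ h3)]
      · rw [if_neg h4]
    · rw [hA i j h1]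
      by_cases h4 : j = i
      · subst h4; rw [if_pos rfl, if_pos rfl, one_mul, hB j k hik]
      · rw [if_neg (Ne.symm h4), if_neg h4, zero_mul]
  simp only [key, Finset.sum_ite_eq', Finset.mem_univ, if_true]

/-- the subgroup of the matrices that agree with the identity outside a transitive pattern -/
def pat (S : Fin 5 → Fin 5 → Prop) (hS : ∀ i j k, S i j → S j k → S i k) : Subgroup Γ where
  carrier := {g | Pat S (g : M5)}
  mul_mem' ha hb := Pat.mul hS ha hb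
  one_mem' := fun i j _ => Matrix.one_apply
  inv_mem' {g} hg := by
    have h : ∀ n : ℕ, Pat S ((g ^ n : Γ) : M5) := by
      intro n
      induction n with
      | zero => exact fun i j _ => Matrix.one_apply
      | succ n ih => rw [pow_succ]; exact Pat.mul hS ih hg
    have e : g⁻¹ = g ^ (orderOf g - 1) := by
      rw [inv_eq_iff_mul_eq_one, ← pow_succ', Nat.sub_add_cancel (orderOf_pos g), pow_orderOf_eq_one]
    show Pat S ((g⁻¹ : Γ) : M5)
    rw [e]; exact h _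

theorem mem_pat {S : Fin 5 → Fin 5 → Prop} {hS : ∀ i j k, S i j → S j k → S i k} {g : Γ} :
    g ∈ pat S hS ↔ Pat S (g : M5) := Iff.rfl

instance (S : Fin 5 → Fin 5 → Prop) [DecidableRel S] (hS : ∀ i j k, S i j → S j k → S i k) (g : Γ) :
    Decidable (g ∈ pat S hS) := decidable_of_iff _ mem_pat.symm

/-- `GL(P₁)` -/
abbrev S1 : Subgroup Γ := pat (fun i j => i.1 < 2 ∧ j.1 < 2) (by decide)
/-- `GL(P₂)` -/
abbrev S2 : Subgroup Γ := pat (fun i j => (i = 2 ∨ i = 3) ∧ (j = 2 ∨ j = 3)) (by decide)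
/-- `GL(P₁ + p)` -/
abbrev K1 : Subgroup Γ := pat (fun i j => (i.1 < 2 ∨ i = 4) ∧ (j.1 < 2 ∨ j = 4)) (by decide)
/-- `GL(P₂ + p)` -/
abbrev K2 : Subgroup Γ := pat (fun i j => 2 ≤ i.1 ∧ 2 ≤ j.1) (by decide)
/-- `GL(P₁ + P₂)` -/
abbrev MM : Subgroup Γ := pat (fun i j => i ≠ 4 ∧ j ≠ 4) (by decide)
/-- `Hom(P₁, p)` -/
abbrev W1 : Subgroup Γ := pat (fun i j => i = 4 ∧ j.1 < 2) (by decide)
/-- `Hom(p, P₁)` -/
abbrev W1s : Subgroup Γ := pat (fun i j => i.1 < 2 ∧ j = 4) (by decide)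
/-- `Hom(P₂, p)` -/
abbrev W2 : Subgroup Γ := pat (fun i j => i = 4 ∧ (j = 2 ∨ j = 3)) (by decide)
/-- `Hom(p, P₂)` -/
abbrev W2s : Subgroup Γ := pat (fun i j => (i = 2 ∨ i = 3) ∧ j = 4) (by decide)
/-- `Hom(P₁ + P₂, p)`, the transvections with centre `p` -/
abbrev RR : Subgroup Γ := pat (fun i j => i = 4 ∧ j ≠ 4) (by decide)
/-- `Hom(p, P₁ + P₂)`, the transvections with axis `P₁ + P₂` -/
abbrev Rs : Subgroup Γ := pat (fun i j => i ≠ 4 ∧ j = 4) (by decide)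
/-- `Hom(P₁, P₂)` -/
abbrev F12 : Subgroup Γ := pat (fun i j => (i = 2 ∨ i = 3) ∧ j.1 < 2) (by decide)
/-- `Hom(P₂, P₁)` -/
abbrev F21 : Subgroup Γ := pat (fun i j => i.1 < 2 ∧ (j = 2 ∨ j = 3)) (by decide)
/-- the stabiliser of `p` -/
abbrev PP : Subgroup Γ := pat (fun _ j => j ≠ 4) (by decide)
/-- the stabiliser of the hyperplane `P₁ + P₂` -/
abbrev PH : Subgroup Γ := pat (fun i _ => i ≠ 4) (by decide)
/-- the centraliser of `t1` -/
abbrev CT : Subgroup Γ := pat (fun i j => i ≠ 1 ∧ j ≠ 0) (by decide)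
/-- the transvections with centre `e₀` -/
abbrev R0 : Subgroup Γ := pat (fun i j => i = 0 ∧ j ≠ 0) (by decide)
/-- the transvections with axis `x₁ = 0` -/
abbrev C1 : Subgroup Γ := pat (fun i j => i ≠ 1 ∧ j = 1) (by decide)
/-- `O₂(CT) = R0 C1`, extraspecial of order `2⁷` -/
abbrev EE : Subgroup Γ := pat (fun i j => (i = 0 ∧ j ≠ 0) ∨ (i ≠ 1 ∧ j = 1)) (by decide)

/-- the order `e₄ < e₂ < e₃ < e₀ < e₁` -/
def rk : Fin 5 → ℕ := ![3, 4, 1, 2, 0]
/-- a Sylow `2`-subgroup of `MM` containing `F12` -/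
abbrev TM : Subgroup Γ := pat (fun i j => i ≠ 4 ∧ rk i < rk j) (by decide)
/-- a Sylow `2`-subgroup of `Γ`, equal to `RR TM` -/
abbrev TL : Subgroup Γ := pat (fun i j => rk i < rk j) (by decide)
/-- the transvections of `MM` with centre `e₂` -/
abbrev As : Subgroup Γ := pat (fun i j => i = 2 ∧ j ≠ 2 ∧ j ≠ 4) (by decide)
/-- the centraliser of `el 4 1` -/
abbrev CU : Subgroup Γ := pat (fun i j => i ≠ 1 ∧ j ≠ 4) (by decide)
/-- `O₂(CU) = RR C1` -/
abbrev EU : Subgroup Γ := pat (fun i j => (i = 4 ∧ j ≠ 4) ∨ (i ≠ 1 ∧ j = 1)) (by decide)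
/-- the permutation `0 ↦ 4 ↦ 1 ↦ 0` -/
def l3 : Γ := mk !![0,1,0,0,0; 0,0,0,0,1; 0,0,1,0,0; 0,0,0,1,0; 1,0,0,0,0]
  !![0,0,0,0,1; 1,0,0,0,0; 0,0,1,0,0; 0,0,0,1,0; 0,1,0,0,0] (by decide +kernel) (by decide +kernel)

/-- the Sylow `3`-subgroup `⟨b₁, b₂⟩` -/
def B0 : Subgroup Γ := closure {b1, b2}
/-- the dihedral group of order eight normalising `B0` -/
def D8 : Subgroup Γ := closure {t1, t2, sw}
/-- the two `B0`-invariant four-subgroups of `Ac` -/
def Fcp : Subgroup Γ := F12 ⊓ centralizer {cd}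
def Fcm : Subgroup Γ := F21 ⊓ centralizer {cd}
/-- the two `B0`-invariant four-subgroups of `Ad` -/
def Fdp : Subgroup Γ := F12 ⊓ centralizer {cc}
def Fdm : Subgroup Γ := F21 ⊓ centralizer {cc}
/-- `SL₂(4)` containing `cc` and centralising `cd` -/
def Ac : Subgroup Γ := closure {cc, fc, sc}
/-- `SL₂(4)` containing `cd` and centralising `cc` -/
def Ad : Subgroup Γ := closure {cd, fd, sw}

/-- the subgroup generated by the conjugates of `x` under the centraliser of `y` and `z` -/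
def ncl {G : Type*} [Group G] (x y z : G) : Subgroup G :=
  closure {w | ∃ g, Commute y g ∧ Commute z g ∧ w = g * x * g⁻¹}

/-! ### relations between the standard elements -/

theorem b1_cube : b1 ^ 3 = 1 := by decide +kernel
theorem b2_cube : b2 ^ 3 = 1 := by decide +kernel
theorem cc_cube : cc ^ 3 = 1 := by decide +kernel
theorem cd_cube : cd ^ 3 = 1 := by decide +kernel
theorem b1_ne : b1 ≠ 1 := by decide +kernel
theorem b2_ne : b2 ≠ 1 := by decide +kernel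
theorem cc_ne : cc ≠ 1 := by decide +kernel
theorem cd_ne : cd ≠ 1 := by decide +kernel
theorem b1_b2 : Commute b1 b2 := by unfold Commute SemiconjBy; decide +kernel
theorem b1_eq : b1 = (cc * cd)⁻¹ := by decide +kernel
theorem b2_eq : b2 = (cc * cd⁻¹)⁻¹ := by decide +kernel
theorem el_el (i j : Fin 5) : el i j * el i j = 1 := ext5 (elM_mul i j)
theorem el_inv (i j : Fin 5) : (el i j)⁻¹ = el i j := ext5 rfl
theorem t1_t1 : t1 * t1 = 1 := el_el 0 1
theorem t2_t2 : t2 * t2 = 1 := el_el 2 3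
theorem sw_sw : sw * sw = 1 := by decide +kernel
theorem sc_sc : sc * sc = 1 := by decide +kernel
theorem fc_fc : fc * fc = 1 := by decide +kernel
theorem fd_fd : fd * fd = 1 := by decide +kernel
theorem k24_k24 : k24 * k24 = 1 := by decide +kernel
theorem t1_inv : t1⁻¹ = t1 := ext5 rfl
theorem t2_inv : t2⁻¹ = t2 := ext5 rfl
theorem sw_inv : sw⁻¹ = sw := ext5 rfl
theorem sc_inv : sc⁻¹ = sc := by decide +kernel
theorem t1_ne : t1 ≠ 1 := by decide +kernel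
theorem t1_b1 : t1 * b1 * t1⁻¹ = b1⁻¹ := by decide +kernel
theorem t1_b2 : t1 * b2 * t1⁻¹ = b2 := by decide +kernel
theorem t2_b1 : t2 * b1 * t2⁻¹ = b1 := by decide +kernel
theorem t2_b2 : t2 * b2 * t2⁻¹ = b2⁻¹ := by decide +kernel
theorem sw_b1 : sw * b1 * sw⁻¹ = b2 := by decide +kernel
theorem sw_b2 : sw * b2 * sw⁻¹ = b1 := by decide +kernel
theorem sw_t1 : sw * t1 * sw⁻¹ = t2 := by decide +kernel
theorem sw_cc : sw * cc * sw⁻¹ = cc := by decide +kernel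
theorem sw_cd : sw * cd * sw⁻¹ = cd⁻¹ := by decide +kernel
theorem sc_cc : sc * cc * sc⁻¹ = cc⁻¹ := by decide +kernel
theorem sc_cd : sc * cd * sc⁻¹ = cd := by decide +kernel
theorem sc_b1 : sc * b1 * sc⁻¹ = b2⁻¹ := by decide +kernel
theorem sc_b2 : sc * b2 * sc⁻¹ = b1⁻¹ := by decide +kernel
theorem t2_cc : t2 * cc * t2⁻¹ = cd := by decide +kernel
theorem t2_cd : t2 * cd * t2⁻¹ = cc := by decide +kernel
theorem sc_sw : sc * sw = t1 * t2 := by decide +kernel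
theorem fc_sc_cube : (fc * sc) ^ 3 = 1 := by decide +kernel
theorem fd_sw_cube : (fd * sw) ^ 3 = 1 := by decide +kernel
theorem y7_pow : y7 ^ 7 = 1 := by decide +kernel
theorem y7_ne : y7 ≠ 1 := by decide +kernel
theorem b1_y7 : b1 * y7 * b1⁻¹ = y7 ^ 2 := by decide +kernel
theorem cc_y7 : cc * y7 * cc⁻¹ = y7 ^ 2 := by decide +kernel
theorem cd_y7 : cd * y7 * cd⁻¹ = y7 ^ 2 := by decide +kernel
theorem y7_mem : y7 ∈ K1 := by decide +kernel
theorem y5_pow : y5 ^ 5 = 1 := by decide +kernel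
theorem y5_ne : y5 ≠ 1 := by decide +kernel
theorem γ_b1 : γ b1 = b1 := by rw [γ_apply]; decide +kernel
theorem γ_b2 : γ b2 = b2 := by rw [γ_apply]; decide +kernel
theorem γ_t1 : γ t1 = t1 := by rw [γ_apply]; decide +kernel
theorem γ_t2 : γ t2 = t2 := by rw [γ_apply]; decide +kernel
theorem γ_sw : γ sw = sw := by rw [γ_apply]; decide +kernel
theorem γ_cc : γ cc = cc := by rw [cc, map_mul, γ_b1, γ_b2]
theorem γ_cd : γ cd = cd := by rw [cd, map_mul, map_inv, γ_b1, γ_b2]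
theorem γ_sc : γ sc = sc := by rw [sc, map_mul, map_mul, γ_t2, γ_sw]
theorem γ_fd : γ fd = sw * fd * sw⁻¹ := by rw [γ_apply]; decide +kernel
theorem γ_fc : γ fc = sc * fc * sc⁻¹ := by rw [γ_apply]; decide +kernel
theorem γ_04 : γ (el 0 4) = el 4 1 := by rw [γ_apply]; decide +kernel
theorem γ_41 : γ (el 4 1) = el 0 4 := by rw [γ_apply]; decide +kernel
theorem l3_04 : l3 * el 0 4 * l3⁻¹ = el 4 1 := by decide +kernel
theorem comm_04_41 : el 0 4 * el 4 1 * el 0 4 * el 4 1 = t1 := by decide +kernel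

end CL.L7
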